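import Cfsg.Agent.H411.PrA.Defs
import Cfsg.Agent.S0713

/-!
# S3618, part A, section 9: identification with the action on pairs (helper738)
-/

set_option autoImplicit false
set_option linter.unusedVariables false

open Equiv Equiv.Perm MulAction Cfsg.Agent.H411.PrA
open scoped Pointwise

namespace Cfsg.Agent.H738.PrA

universe u v

/-! ### general facts -/

/-- a permutation of odd order which preserves a pair fixes both members -/
theorem fix_of_pair {α : Type*} (y : Perm α) (ho : Odd (orderOf y)) {c d : α} (h1 : y c = c ∨ y c = d)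
    (h2 : y d = c ∨ y d = d) : y c = c := by
  rcases h1 with h1 | h1
  · exact h1
  have hd : y d = c := by
    rcases h2 with h2 | h2
    · exact h2
    · have : c = d := y.injective (h1.trans h2.symm)
      rw [this]; exact h2
  have hsq : (y ^ 2) c = c := by
    rw [pow_two, Perm.mul_apply, h1, hd]
  obtain ⟨k, hk⟩ := ho
  have h3 : (y ^ orderOf y) c = c := by rw [pow_orderOf_eq_one]; rfl
  have h4 : ∀ n : ℕ, ((y ^ 2) ^ n) c = c := by
    intro n
    induction n with
    | zero => rfl
    | succ n ih => rw [pow_succ, Perm.mul_apply, hsq, ih]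
  have h5 : y ^ (2 * k + 1) = y * (y ^ 2) ^ k := by rw [← pow_mul, pow_succ']
  rw [hk, h5, Perm.mul_apply, h4] at h3
  exact h3

/-- a subgroup containing the alternating group -/
theorem eq_alt_or_top {α : Type*} [Fintype α] [DecidableEq α] (H : Subgroup (Perm α))
    (h : alternatingGroup α ≤ H) : H = alternatingGroup α ∨ H = ⊤ := by
  by_cases hs : ∃ g ∈ H, Perm.sign g = -1
  · right
    obtain ⟨g, hg, hgs⟩ := hs
    rw [eq_top_iff]
    intro y _
    rcases Int.units_eq_one_or (Perm.sign y) with hy | hy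
    · exact h (Perm.mem_alternatingGroup.2 hy)
    · have h1 : g⁻¹ * y ∈ alternatingGroup α := by
        rw [Perm.mem_alternatingGroup, Perm.sign_mul, Perm.sign_inv, hgs, hy]
        rfl
      have h2 : y = g * (g⁻¹ * y) := by group
      rw [h2]
      exact H.mul_mem hg (h h1)
  · left
    push Not at hs
    apply le_antisymm _ h
    intro g hg
    rw [Perm.mem_alternatingGroup]
    rcases Int.units_eq_one_or (Perm.sign g) with h1 | h1
    · exact h1
    · exact absurd h1 (hs g hg)

/-- the alternating groups of two types with the same number of elements -/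
theorem alt_congr {α : Type u} {β : Type v} [Fintype α] [DecidableEq α] [Fintype β] [DecidableEq β] (e : α ≃ β) :
    Nonempty (alternatingGroup α ≃* alternatingGroup β) := by
  have h1 : (alternatingGroup α).map e.permCongrHom.toMonoidHom = alternatingGroup β := by
    ext g
    constructor
    · rintro ⟨x, hx, rfl⟩
      rw [Perm.mem_alternatingGroup]
      have := Perm.mem_alternatingGroup.1 hx
      show Perm.sign (e.permCongr x) = 1
      rw [Perm.sign_permCongr, this]
    · intro hg
      refine ⟨e.symm.permCongr g, ?_, ?_⟩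
      · show e.symm.permCongr g ∈ alternatingGroup α
        rw [Perm.mem_alternatingGroup, Perm.sign_permCongr]
        exact Perm.mem_alternatingGroup.1 hg
      · show e.permCongr (e.symm.permCongr g) = g
        ext b
        simp [Equiv.permCongr_apply]
  exact ⟨((alternatingGroup α).equivMapOfInjective _ e.permCongrHom.injective).trans (MulEquiv.subgroupCongr h1)⟩

/-- primitivity from 2-homogeneity -/
theorem prim_of_hom {X : Type*} (H : Subgroup (Perm X)) (h3 : ∀ C E : X, ∃ C' : X, C' ≠ C ∧ C' ≠ E)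
    (hh : ∀ C C' E E' : X, C ≠ C' → E ≠ E' → ∃ g ∈ H, (g C = E ∧ g C' = E') ∨ (g C = E' ∧ g C' = E)) :
    IsPreprimitive H X := by
  have htr : IsPretransitive H X := by
    refine ⟨fun C E => ?_⟩
    by_cases hCE : C = E
    · exact ⟨1, by rw [one_smul]; exact hCE⟩
    obtain ⟨C', hC, hE⟩ := h3 C E
    obtain ⟨g, hg, h | h⟩ := hh C C' E C' hC.symm hE.symm
    · exact ⟨⟨g, hg⟩, h.1⟩
    · refine ⟨⟨g, hg⟩ * ⟨g, hg⟩, ?_⟩
      show (g * g) C = E
      rw [Perm.mul_apply, h.1, h.2]
  refine { htr with isTrivialBlock_of_isBlock := ?_ }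
  intro B hB
  by_cases hs : B.Subsingleton
  · exact Or.inl hs
  right
  rw [Set.not_subsingleton_iff] at hs
  obtain ⟨C, hC, C', hC', hne⟩ := hs
  rw [Set.eq_univ_iff_forall]
  intro E
  by_cases hCE : E = C
  · rw [hCE]; exact hC
  obtain ⟨g, hg, h⟩ := hh C C' C E hne (Ne.symm hCE)
  have h1 : C ∈ (⟨g, hg⟩ : H) • B := by
    rcases h with h | h
    · exact ⟨C, hC, h.1⟩
    · exact ⟨C', hC', h.2⟩
  have h2 : E ∈ (⟨g, hg⟩ : H) • B := by
    rcases h with h | h
    · exact ⟨C', hC', h.2⟩
    · exact ⟨C, hC, h.1⟩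
  have h5 : (⟨g, hg⟩ : H) • B = B := by
    by_contra hne2
    have h6 : (⟨g, hg⟩ : H) • B ≠ (1 : H) • B := by rwa [one_smul]
    have h7 := hB h6
    rw [one_smul] at h7
    exact Set.disjoint_left.1 h7 h1 hC
  rw [h5] at h2
  exact h2

variable {Ω : Type u} {p m : ℕ}

section

variable [Fintype Ω] [DecidableEq Ω]

omit [Fintype Ω] [DecidableEq Ω] in
theorem map_map_of (f g : Perm Ω) (h : ∀ b, g (f b) = b) (C : Finset Ω) :
    (C.map f.toEmbedding).map g.toEmbedding = C := by
  ext b
  rw [Finset.mem_map]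
  constructor
  · rintro ⟨c, hc, rfl⟩
    obtain ⟨d, hd, rfl⟩ := Finset.mem_map.1 hc
    show g (f d) ∈ C
    rw [h]
    exact hd
  · intro hb
    exact ⟨f b, Finset.mem_map.2 ⟨b, hb, rfl⟩, h b⟩

/-- the action on the set of members -/
def act (K : Subgroup (Perm Ω)) (CC : Finset (Finset Ω)) (h5 : ∀ k ∈ K, ∀ C ∈ CC, C.map k.toEmbedding ∈ CC) :
    K →* Perm {C // C ∈ CC} where
  toFun k :=
    { toFun := fun C => ⟨C.1.map k.1.toEmbedding, h5 k.1 k.2 C.1 C.2⟩
      invFun := fun C => ⟨C.1.map (k⁻¹).1.toEmbedding, h5 (k⁻¹).1 (k⁻¹).2 C.1 C.2⟩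
      left_inv := by
        intro C
        apply Subtype.ext
        exact map_map_of k.1 (k⁻¹).1 (fun b => k.1.symm_apply_apply b) C.1
      right_inv := by
        intro C
        apply Subtype.ext
        exact map_map_of (k⁻¹).1 k.1 (fun b => k.1.apply_symm_apply b) C.1 }
  map_one' := by
    apply Equiv.ext
    intro C
    apply Subtype.ext
    show C.1.map ((1 : K) : Perm Ω).toEmbedding = C.1
    ext b
    rw [Finset.mem_map]
    constructor
    · rintro ⟨c, hc, rfl⟩
      exact hc
    · intro hb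
      exact ⟨b, hb, rfl⟩
  map_mul' k l := by
    ext C b
    simp only [Equiv.coe_fn_mk, Perm.coe_mul, Function.comp_apply, Finset.mem_map, Subgroup.coe_mul]
    constructor
    · rintro ⟨c, hc, rfl⟩
      exact ⟨l.1 c, ⟨c, hc, rfl⟩, rfl⟩
    · rintro ⟨_, ⟨c, hc, rfl⟩, rfl⟩
      exact ⟨c, hc, rfl⟩

theorem mem_act {K : Subgroup (Perm Ω)} {CC : Finset (Finset Ω)} (h5 : ∀ k ∈ K, ∀ C ∈ CC, C.map k.toEmbedding ∈ CC)
    (k : K) (C : {C // C ∈ CC}) (b : Ω) : k.1 b ∈ (act K CC h5 k C).1 ↔ b ∈ C.1 := by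
  show k.1 b ∈ C.1.map k.1.toEmbedding ↔ b ∈ C.1
  rw [Finset.mem_map]
  constructor
  · rintro ⟨c, hc, he⟩
    have : c = b := k.1.injective he
    rwa [← this]
  · intro hb
    exact ⟨b, hb, rfl⟩

/-- FINAL (plan section 9) -/
theorem final_pairs {q : ℕ} (hp : p.Prime) (hp2 : p ≠ 2) (hm : p + 3 ≤ m)
    (K : Subgroup (Perm Ω)) (hK : IsPreprimitive K Ω) (CC : Finset (Finset Ω)) (h1 : CC.card = m + 2)
    (h2 : ∀ C ∈ CC, C.card = m + 1) (h3 : ∀ a : Ω, (CC.filter (fun C => a ∈ C)).card = 2)
    (h4 : ∀ C ∈ CC, ∀ C' ∈ CC, C ≠ C' → (C ∩ C').card = 1) (h5 : ∀ k ∈ K, ∀ C ∈ CC, C.map k.toEmbedding ∈ CC)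
    (x : Perm Ω) (hx : x ∈ K) (hxp : orderOf x = p) (hxq : x.support.card = q * p) (a : Ω) (hxa : x a = a)
    (h6 : ∀ C ∈ CC, a ∈ C → (C.filter (fun b => x b ≠ b)).card = p) : Pairs p q (Fintype.card Ω) K := by
  classical
  let X := {C // C ∈ CC}
  have hX : Fintype.card X = m + 2 := by rw [Fintype.card_coe, h1]
  let φ : K →* Perm X := act K CC h5
  have hφ : ∀ (k : K) (C : X) (b : Ω), k.1 b ∈ (φ k C).1 ↔ b ∈ C.1 := fun k C b => mem_act h5 k C b
  -- two members meet in one point
  have hmeet : ∀ C C' : X, C ≠ C' → ∃ b, b ∈ C.1 ∧ b ∈ C'.1 ∧ ∀ y, y ∈ C.1 → y ∈ C'.1 → y = b := by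
    intro C C' hne
    obtain ⟨b, hb⟩ := Finset.card_eq_one.1 (h4 C.1 C.2 C'.1 C'.2 (fun h => hne (Subtype.ext h)))
    have hb' : b ∈ C.1 ∩ C'.1 := by rw [hb]; exact Finset.mem_singleton_self b
    refine ⟨b, (Finset.mem_inter.1 hb').1, (Finset.mem_inter.1 hb').2, fun y hy hy' => ?_⟩
    have : y ∈ C.1 ∩ C'.1 := Finset.mem_inter.2 ⟨hy, hy'⟩
    rw [hb] at this
    exact Finset.mem_singleton.1 this
  -- every point is in exactly two members
  have hmem : ∀ b : Ω, ∃ C C' : X, C ≠ C' ∧ b ∈ C.1 ∧ b ∈ C'.1 ∧ ∀ E : X, b ∈ E.1 → E = C ∨ E = C' := by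
    intro b
    obtain ⟨C, C', hne, he⟩ := Finset.card_eq_two.1 (h3 b)
    have hC : C ∈ CC.filter (fun C => b ∈ C) := by rw [he]; simp
    have hC' : C' ∈ CC.filter (fun C => b ∈ C) := by rw [he]; simp
    rw [Finset.mem_filter] at hC hC'
    refine ⟨⟨C, hC.1⟩, ⟨C', hC'.1⟩, fun h => hne (congrArg Subtype.val h), hC.2, hC'.2, fun E hE => ?_⟩
    have : E.1 ∈ CC.filter (fun C => b ∈ C) := Finset.mem_filter.2 ⟨E.2, hE⟩
    rw [he, Finset.mem_insert, Finset.mem_singleton] at this
    rcases this with h | h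
    · exact Or.inl (Subtype.ext h)
    · exact Or.inr (Subtype.ext h)
  have htwo : ∀ (b : Ω) (C C' E : X), C ≠ C' → b ∈ C.1 → b ∈ C'.1 → b ∈ E.1 → E = C ∨ E = C' := by
    intro b C C' E hne hC hC' hE
    obtain ⟨D, D', -, -, -, hall⟩ := hmem b
    rcases hall C hC with r1 | r1 <;> rcases hall C' hC' with r2 | r2 <;> rcases hall E hE with r3 | r3
    · exact absurd (r1.trans r2.symm) hne
    · exact absurd (r1.trans r2.symm) hne
    · exact Or.inl (r3.trans r1.symm)
    · exact Or.inr (r3.trans r2.symm)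
    · exact Or.inr (r3.trans r2.symm)
    · exact Or.inl (r3.trans r1.symm)
    · exact absurd (r1.trans r2.symm) hne
    · exact absurd (r1.trans r2.symm) hne
  -- the action is faithful
  have hinj : Function.Injective φ := by
    rw [injective_iff_map_eq_one]
    intro k hk
    apply Subtype.ext
    ext b
    obtain ⟨C, C', hne, hC, hC', -⟩ := hmem b
    obtain ⟨b', -, -, hb'⟩ := hmeet C C' hne
    have e1 : k.1 b ∈ C.1 := by
      have := (hφ k C b).2 hC
      rwa [hk] at this
    have e2 : k.1 b ∈ C'.1 := by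
      have := (hφ k C' b).2 hC'
      rwa [hk] at this
    show k.1 b = b
    rw [hb' _ e1 e2, hb' _ hC hC']
  -- counting of points by pairs of members
  have hcount : ∀ S : Finset X, (Finset.univ.filter (fun b : Ω => ∀ C : X, b ∈ C.1 → C ∈ S)).card =
      S.card.choose 2 := by
    intro S
    rw [← Finset.card_powersetCard]
    apply Finset.card_bij (fun b _ => Finset.univ.filter (fun C : X => b ∈ C.1))
    · intro b hb
      rw [Finset.mem_filter] at hb
      rw [Finset.mem_powersetCard]
      constructor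
      · intro C hC
        exact hb.2 C (Finset.mem_filter.1 hC).2
      · obtain ⟨C, C', hne, hC, hC', hall⟩ := hmem b
        rw [Finset.card_eq_two]
        refine ⟨C, C', hne, ?_⟩
        ext E
        simp only [Finset.mem_filter, Finset.mem_univ, true_and, Finset.mem_insert, Finset.mem_singleton]
        constructor
        · exact hall E
        · rintro (rfl | rfl) <;> assumption
    · intro b _ b' _ he
      obtain ⟨C, C', hne, hC, hC', hall⟩ := hmem b
      obtain ⟨z, -, -, hz⟩ := hmeet C C' hne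
      have e1 : C ∈ Finset.univ.filter (fun C : X => b' ∈ C.1) := by
        rw [← he]; simp [hC]
      have e2 : C' ∈ Finset.univ.filter (fun C : X => b' ∈ C.1) := by
        rw [← he]; simp [hC']
      rw [hz b hC hC', hz b' (Finset.mem_filter.1 e1).2 (Finset.mem_filter.1 e2).2]
    · intro T hT
      rw [Finset.mem_powersetCard] at hT
      obtain ⟨C, C', hne, rfl⟩ := Finset.card_eq_two.1 hT.2
      obtain ⟨b, hbC, hbC', hb⟩ := hmeet C C' hne
      refine ⟨b, ?_, ?_⟩
      · rw [Finset.mem_filter]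
        refine ⟨Finset.mem_univ _, fun E hE => ?_⟩
        rcases htwo b C C' E hne hbC hbC' hE with rfl | rfl
        · exact hT.1 (by simp)
        · exact hT.1 (by simp)
      · ext E
        simp only [Finset.mem_filter, Finset.mem_univ, true_and, Finset.mem_insert, Finset.mem_singleton]
        constructor
        · exact htwo b C C' E hne hbC hbC'
        · rintro (rfl | rfl) <;> assumption
  have hn : Fintype.card Ω = (m + 2).choose 2 := by
    have := hcount Finset.univ
    rw [Finset.card_univ, hX] at this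
    rw [← this, ← Finset.card_univ]
    congr 1
    ext b
    simp
  -- the image of `x`
  set y : Perm X := φ ⟨x, hx⟩ with hy
  have hyx : ∀ (C : X) (b : Ω), x b ∈ (y C).1 ↔ b ∈ C.1 := fun C b => hφ ⟨x, hx⟩ C b
  have hyo : orderOf y = p := by
    rw [hy, orderOf_injective φ hinj, ← hxp, ← Subgroup.orderOf_coe]
  have hodd : Odd (orderOf y) := by
    rw [hyo]
    exact hp.odd_of_ne_two hp2
  have hfixmem : ∀ (b : Ω), x b = b → ∀ C : X, b ∈ C.1 → y C = C := by
    intro b hb C hC
    obtain ⟨D, D', hne, hD, hD', hall⟩ := hmem b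
    have e1 : ∀ E : X, b ∈ E.1 → (y E = D ∨ y E = D') := by
      intro E hE
      apply hall
      have := (hyx E b).2 hE
      rwa [hb] at this
    rcases hall C hC with rfl | rfl
    · exact fix_of_pair y hodd (e1 C hD) (e1 D' hD')
    · exact fix_of_pair y hodd (e1 C hD').symm (e1 D hD).symm
  have hfix_of : ∀ (b : Ω) (C C' : X), C ≠ C' → b ∈ C.1 → b ∈ C'.1 → y C = C → y C' = C' → x b = b := by
    intro b C C' hne hC hC' e1 e2
    obtain ⟨z, -, -, hz⟩ := hmeet C C' hne
    have f1 := (hyx C b).2 hC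
    have f2 := (hyx C' b).2 hC'
    rw [e1] at f1
    rw [e2] at f2
    rw [hz _ f1 f2, hz _ hC hC']
  -- the support of `y` has `p` elements
  obtain ⟨C₁, C₂, hne12, ha1, ha2, -⟩ := hmem a
  have hyC1 : y C₁ = C₁ := hfixmem a hxa C₁ ha1
  have hysupp : y.support.card = p := by
    rw [← h6 C₁.1 C₁.2 ha1]
    have hne1 : ∀ C : X, C ∈ y.support → C ≠ C₁ := by
      rintro C hC rfl
      exact (Perm.mem_support.1 hC) hyC1
    let pt : ∀ C : X, C ∈ y.support → Ω := fun C hC => (hmeet C C₁ (hne1 C hC)).choose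
    have hpt1 : ∀ (C : X) (hC : C ∈ y.support), pt C hC ∈ C.1 := fun C hC => (hmeet C C₁ (hne1 C hC)).choose_spec.1
    have hpt2 : ∀ (C : X) (hC : C ∈ y.support), pt C hC ∈ C₁.1 := fun C hC =>
      (hmeet C C₁ (hne1 C hC)).choose_spec.2.1
    have hpt3 : ∀ (C : X) (hC : C ∈ y.support) (z : Ω), z ∈ C.1 → z ∈ C₁.1 → z = pt C hC := fun C hC =>
      (hmeet C C₁ (hne1 C hC)).choose_spec.2.2
    apply Finset.card_bij pt
    · intro C hC
      rw [Finset.mem_filter]
      refine ⟨hpt2 C hC, fun hfix => ?_⟩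
      exact (Perm.mem_support.1 hC) (hfixmem _ hfix C (hpt1 C hC))
    · intro C hC C' hC' he
      have e1 : pt C hC ∈ C'.1 := by rw [he]; exact hpt1 C' hC'
      rcases htwo (pt C hC) C C₁ C' (hne1 C hC) (hpt1 C hC) (hpt2 C hC) e1 with h | h
      · exact h.symm
      · exact absurd h (hne1 C' hC')
    · intro b hb
      rw [Finset.mem_filter] at hb
      obtain ⟨D, D', hne, hD, hD', hall⟩ := hmem b
      obtain ⟨C, hCne, hbC⟩ : ∃ C : X, C ≠ C₁ ∧ b ∈ C.1 := by
        by_cases hD1 : D = C₁
        · exact ⟨D', fun h => hne (hD1.trans h.symm), hD'⟩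
        · exact ⟨D, hD1, hD⟩
      have hCs : C ∈ y.support := by
        rw [Perm.mem_support]
        intro h
        exact hb.2 (hfix_of b C C₁ hCne hbC hb.1 h hyC1)
      exact ⟨C, hCs, (hpt3 C hCs b hbC hb.1).symm⟩
  have hcyc : y.IsCycle := by
    apply Perm.isCycle_of_prime_order
    · rw [hyo]; exact hp
    · rw [hyo, hysupp]
      have := hp.pos
      omega
  -- primitivity
  have hprim : IsPreprimitive φ.range X := by
    apply prim_of_hom
    · intro C E
      have hc3 : 3 ≤ Fintype.card X := by rw [hX]; omega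
      by_contra hcon
      push Not at hcon
      have : Fintype.card X ≤ 2 := by
        have hsub : (Finset.univ : Finset X) ⊆ {C, E} := by
          intro F _
          rw [Finset.mem_insert, Finset.mem_singleton]
          by_cases hF : F = C
          · exact Or.inl hF
          · exact Or.inr (hcon F hF)
        calc Fintype.card X = (Finset.univ : Finset X).card := rfl
          _ ≤ ({C, E} : Finset X).card := Finset.card_le_card hsub
          _ ≤ 2 := Finset.card_le_two
      omega
    · intro C C' E E' hC hE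
      obtain ⟨b, hb1, hb2, -⟩ := hmeet C C' hC
      obtain ⟨e, he1, he2, -⟩ := hmeet E E' hE
      obtain ⟨k, hk⟩ := hK.exists_smul_eq b e
      have hk' : k.1 b = e := hk
      refine ⟨φ k, ⟨k, rfl⟩, ?_⟩
      have f1 : e ∈ (φ k C).1 := by rw [← hk']; exact (hφ k C b).2 hb1
      have f2 : e ∈ (φ k C').1 := by rw [← hk']; exact (hφ k C' b).2 hb2
      have f3 : φ k C ≠ φ k C' := fun h => hC ((φ k).injective h)
      rcases htwo e E E' _ hE he1 he2 f1 with r1 | r1 <;> rcases htwo e E E' _ hE he1 he2 f2 with r2 | r2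
      · exact absurd (r1.trans r2.symm) f3
      · exact Or.inl ⟨r1, r2⟩
      · exact Or.inr ⟨r1, r2⟩
      · exact absurd (r1.trans r2.symm) f3
  have hAlt : alternatingGroup X ≤ φ.range := by
    apply S0713.result φ.range hprim hp _ _ hcyc hysupp ⟨⟨x, hx⟩, rfl⟩
    · rw [hX]; have := hp.two_le; omega
    · rw [hX]; omega
  -- the number
  have hfixc : (Finset.univ.filter (fun b : Ω => x b = b)).card = (m + 2 - p).choose 2 := by
    have e1 := hcount (Finset.univ.filter (fun C : X => y C = C))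
    have e2 : (Finset.univ.filter (fun C : X => y C = C)).card = m + 2 - p := by
      have : (Finset.univ.filter (fun C : X => y C = C)) = y.supportᶜ := by
        ext C; simp
      rw [this, Finset.card_compl, hX, hysupp]
    rw [e2] at e1
    rw [← e1]
    congr 1
    ext b
    simp only [Finset.mem_filter, Finset.mem_univ, true_and]
    constructor
    · intro hb C hC
      exact hfixmem b hb C hC
    · intro hb
      obtain ⟨C, C', hne, hC, hC', -⟩ := hmem b
      exact hfix_of b C C' hne hC hC' (hb C hC) (hb C' hC')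
  have hsum : q * p + (m + 2 - p).choose 2 = (m + 2).choose 2 := by
    rw [← hxq, ← hfixc, ← hn, ← Finset.card_univ (α := Ω)]
    have : (Finset.univ.filter (fun b : Ω => x b = b)) = x.supportᶜ := by
      ext b; simp
    rw [this, Finset.card_compl, Finset.card_univ]
    have := x.support.card_le_univ
    omega
  have hnum : 2 * q + p + 1 = 2 * (m + 2) := by
    obtain ⟨t, ht⟩ : ∃ t, m + 2 = p + t := ⟨m + 2 - p, by omega⟩
    rw [ht, Nat.add_sub_cancel_left, Nat.choose_two_right, Nat.choose_two_right] at hsum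
    have ht1 : 1 ≤ t := by omega
    obtain ⟨s, rfl⟩ : ∃ s, t = s + 1 := ⟨t - 1, by omega⟩
    have e1 : (s + 1) * (s + 1 - 1) / 2 * 2 = (s + 1) * (s + 1 - 1) :=
      Nat.div_mul_cancel (Nat.even_mul_pred_self (s + 1)).two_dvd
    have e2 : (p + (s + 1)) * (p + (s + 1) - 1) / 2 * 2 = (p + (s + 1)) * (p + (s + 1) - 1) :=
      Nat.div_mul_cancel (Nat.even_mul_pred_self (p + (s + 1))).two_dvd
    have e3 : 2 * (q * p) + (s + 1) * s = (p + (s + 1)) * (p + s) := by
      have e4 : (s + 1) * (s + 1 - 1) = (s + 1) * s := by rw [Nat.add_sub_cancel]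
      have e5 : (p + (s + 1)) * (p + (s + 1) - 1) = (p + (s + 1)) * (p + s) := by
        congr 1
      rw [← e5, ← e4]
      omega
    have e6 : p * (2 * q) = p * (p + 2 * s + 1) := by
      have : p * (2 * q) + (s + 1) * s = p * (p + 2 * s + 1) + (s + 1) * s := by
        calc p * (2 * q) + (s + 1) * s = 2 * (q * p) + (s + 1) * s := by ring
          _ = (p + (s + 1)) * (p + s) := e3
          _ = p * (p + 2 * s + 1) + (s + 1) * s := by ring
      omega
    have e7 := Nat.eq_of_mul_eq_mul_left hp.pos e6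
    omega
  refine ⟨m + 2, by omega, hn, hnum, ?_⟩
  have eK : K ≃* φ.range := MonoidHom.ofInjective hinj
  have eX : X ≃ Fin (m + 2) := Fintype.equivFinOfCardEq hX
  rcases eq_alt_or_top φ.range hAlt with h | h
  · left
    obtain ⟨e⟩ := alt_congr eX
    exact ⟨(eK.trans (MulEquiv.subgroupCongr h)).trans e⟩
  · right
    exact ⟨((eK.trans (MulEquiv.subgroupCongr h)).trans Subgroup.topEquiv).trans eX.permCongrHom⟩

end

end Cfsg.Agent.H738.PrA
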